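import Cfsg.Agent.Lib.BC78.CyclicExt
import Cfsg.Agent.Lib.Clifford.Gallagher
import Cfsg.Agent.Lib.Clifford.Monomial
import Mathlib.GroupTheory.Nilpotent

/-!
# Primitive characters restrict irreducibly to a normal subgroup with nilpotent quotient
-/

set_option autoImplicit false

namespace Cfsg.Agent.Lib.PrimitiveMeta.Restrict

open Cfsg.Agent.Lib Cfsg.Agent.Lib.Characters.Basic Cfsg.Agent.Lib.Clifford.Basic
open scoped ComplexConjugate

universe u

variable {G : Type u} [Group G] [Fintype G]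

/-- The constituents of the restrictions to normal subgroups are invariant. -/
def Homogeneous (χ : G → ℂ) : Prop :=
  ∀ (A : Subgroup G) (_ : A.Normal) (_ : Fintype A) (φ : Cfsg.IrrCharacter A),
    Cfsg.classInner (fun a : A => χ a) φ ≠ 0 → ∀ g, conjC A g φ = (φ : A → ℂ)

/-- A character not induced from a proper subgroup is homogeneous on normal subgroups. -/
theorem homogeneous_of_primitive {χ : G → ℂ} (hχ : Cfsg.IsIrrCharacter G χ)
    (hprim : ¬ ∃ (H : Subgroup G), H ≠ ⊤ ∧ ∃ θ : H → ℂ, Cfsg.IsCharacter H θ ∧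
      Cfsg.indFun H θ = χ) : Homogeneous χ := by
  classical
  intro A _ _ φ hφ g
  obtain ⟨ψ, hψ, hψind, -, -⟩ := exists_correspondent A hχ φ hφ (inertia A (φ : A → ℂ)) rfl
    (le_inertia A (isClassFunction_irr φ))
  have hT : inertia A (φ : A → ℂ) = ⊤ := by
    by_contra h
    exact hprim ⟨_, h, ψ, IsCharacter_of_isIrrCharacter hψ, hψind⟩
  exact (mem_inertia A).mp (hT ▸ Subgroup.mem_top g : g ∈ inertia A (φ : A → ℂ))

/-- An irreducible character of degree one of the quotient. -/
theorem degree_one_of_over_cyclic {L : Type u} [Group L] [Fintype L] (K : Subgroup L) [K.Normal]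
    [IsCyclic (L ⧸ K)] (β : Cfsg.IrrCharacter L)
    (h : ∀ (n : K) (g : L), (β : L → ℂ) ((n : L) * g) = (β : L → ℂ) g) : (β : L → ℂ) 1 = 1 := by
  obtain ⟨k, ρ, hρ, hρc⟩ := exists_rep β
  have hker : ∀ n : K, ρ (n : L) = 1 := fun n => by
    have h1 : ρ.character (n : L) = ρ.character 1 := by
      rw [hρc]; simpa using h n 1
    rw [Representation.char_one] at h1
    rw [(Characters.Diag.char_eq_finrank_iff ρ (n : L)).mp h1]
    rfl
  have hcomm : ∀ a b : L, ρ a * ρ b = ρ b * ρ a := by
    intro a b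
    have hq : (QuotientGroup.mk (b * a) : L ⧸ K) = QuotientGroup.mk (a * b) := by
      rw [QuotientGroup.mk_mul, QuotientGroup.mk_mul]
      exact (IsCyclic.commGroup (α := L ⧸ K)).mul_comm _ _
    have hmem := QuotientGroup.eq.mp hq
    rw [← map_mul, ← map_mul]
    conv_lhs => rw [show a * b = (b * a) * ((b * a)⁻¹ * (a * b)) by group, map_mul,
      hker ⟨_, hmem⟩, mul_one]
  rw [← hρc, Representation.char_one,
    Clifford.Monomial.finrank_eq_one_of_commute ρ hcomm, Nat.cast_one]

open scoped Classical in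
/-- Irreducibility passes up a normal series with cyclic factors. -/
theorem restrict_step {χ : G → ℂ} (hχ : Cfsg.IsIrrCharacter G χ) (hhom : Homogeneous χ)
    (K L : Subgroup G) [hK : K.Normal] [hL : L.Normal] (hKL : K ≤ L)
    [IsCyclic (L ⧸ K.subgroupOf L)] (φ : Cfsg.IrrCharacter K)
    (hφ : Cfsg.classInner (fun k : K => χ k) φ ≠ 0) (η : Cfsg.IrrCharacter L)
    (hη : Cfsg.classInner (fun l : L => χ l) η ≠ 0) :
    ∀ k : K, (η : L → ℂ) ⟨(k : G), hKL k.2⟩ = (φ : K → ℂ) k := by
  have hφinv := hhom K hK inferInstance φ hφ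
  have hηinv := hhom L hL inferInstance η hη
  have eK := restrict_eq_smul K hχ φ hφ hφinv
  have eL := restrict_eq_smul L hχ η hη hηinv
  set a := Cfsg.classInner (fun k : K => χ k) φ
  set b := Cfsg.classInner (fun l : L => χ l) η
  have hrel : ∀ k : K, (η : L → ℂ) ⟨(k : G), hKL k.2⟩ = a / b * (φ : K → ℂ) k := fun k => by
    have h1 := congrFun eK k
    have h2 := congrFun eL ⟨(k : G), hKL k.2⟩
    simp only [Pi.smul_apply, smul_eq_mul] at h1 h2
    rw [h1] at h2
    field_simp
    linear_combination -h2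
  -- the same subgroup inside `L`
  let e : K.subgroupOf L ≃* K := Subgroup.subgroupOfEquivOfLe hKL
  let φ' : Cfsg.IrrCharacter (K.subgroupOf L) :=
    ⟨(φ : K → ℂ) ∘ e.toMonoidHom, isIrrCharacter_comp _ e.surjective φ.2⟩
  haveI : (K.subgroupOf L).Normal := Subgroup.normal_subgroupOf
  have hinv' : ∀ g : L, conjC (K.subgroupOf L) g φ' = (φ' : K.subgroupOf L → ℂ) := fun g => by
    funext n
    exact congrFun (hφinv (g : G)) (e n)
  obtain ⟨η₀, hη₀⟩ := BC78.CyclicExt.exists_extension (K.subgroupOf L) φ' fun g =>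
    Subtype.ext (funext fun n => congrFun (hinv' g) n)
  have hirr1 : Cfsg.IsIrrCharacter (K.subgroupOf L) ((fun _ => (1 : ℂ)) * (φ' : _ → ℂ)) := by
    convert φ'.2
    funext n
    simp
  obtain ⟨-, -, hall⟩ := Clifford.Gallagher.gallagher (K.subgroupOf L) (fun _ => (1 : ℂ))
    (φ' : K.subgroupOf L → ℂ) (oneChar _).2 (fun g => funext fun n => rfl) hinv' hirr1 η₀.2 hη₀
  obtain ⟨β, hβ, hηβ⟩ := hall η (by
    rw [Cfsg.Agent.Lib.Induced.Basic.frobenius_reciprocity _ _ (isClassFunction_irr η)]
    have h1 : (fun n : K.subgroupOf L => (η : L → ℂ) n) = (a / b) • (φ' : _ → ℂ) := by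
      funext n
      exact hrel (e n)
    have h2 : ((fun _ => (1 : ℂ)) * (φ' : K.subgroupOf L → ℂ)) = (φ' : _ → ℂ) := by
      funext n; simp
    rw [h2]
    refine classInner_ne_zero_symm ?_
    rw [h1, Cfsg.Agent.Lib.Induced.Basic.classInner_smul_left, classInner_self_irr, mul_one]
    exact div_ne_zero hφ hη)
  have hβ1 : (β : L → ℂ) 1 = 1 := degree_one_of_over_cyclic (K.subgroupOf L) β
    fun n g => Clifford.Gallagher.apply_mul_of_over_one (K.subgroupOf L) β hβ n g
  have hc : a / b = 1 := by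
    have h1 := hrel 1
    have h2 : (η : L → ℂ) 1 = (φ : K → ℂ) 1 := by
      rw [hηβ, Pi.mul_apply, hβ1, one_mul]
      have := hη₀ 1
      rw [OneMemClass.coe_one] at this
      rw [this]
      show (φ : K → ℂ) (e 1) = _
      rw [map_one]
    rw [show (⟨((1 : K) : G), hKL (1 : K).2⟩ : L) = 1 from rfl, h2] at h1
    exact (mul_eq_right₀ (apply_one_ne_zero φ)).mp h1.symm
  intro k
  rw [hrel k, hc, one_mul]

open scoped Classical in
/-- A homogeneous character is irreducible on a normal subgroup with nilpotent quotient. -/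
theorem isIrr_restrict {χ : G → ℂ} (hχ : Cfsg.IsIrrCharacter G χ) (hhom : Homogeneous χ)
    (F : Subgroup G) [hF : F.Normal] (hnil : Group.IsNilpotent (G ⧸ F)) :
    Cfsg.IsIrrCharacter F (fun f : F => χ f) := by
  obtain ⟨θ, hθ⟩ := exists_constituent_restrict F hχ
  suffices h : ∀ (n : ℕ) (K : Subgroup G) (hK : K.Normal) (hFK : F ≤ K), K.index = n →
      ∀ φ : Cfsg.IrrCharacter K, Cfsg.classInner (fun k : K => χ k) φ ≠ 0 →
        (∀ f : F, (φ : K → ℂ) ⟨(f : G), hFK f.2⟩ = (θ : F → ℂ) f) →
          ∀ f : F, χ f = (θ : F → ℂ) f by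
    have := h F.index F hF le_rfl rfl θ hθ fun f => rfl
    rw [show (fun f : F => χ f) = (θ : F → ℂ) from funext this]
    exact θ.2
  intro n
  induction n using Nat.strong_induction_on with
  | _ n ih =>
    intro K hK hFK hn φ hφ hres
    by_cases htop : K = ⊤
    · subst htop
      have hirr : Cfsg.IsIrrCharacter (⊤ : Subgroup G) (fun k : (⊤ : Subgroup G) => χ k) :=
        isIrrCharacter_comp (Subgroup.subtype ⊤) (fun g => ⟨⟨g, Subgroup.mem_top g⟩, rfl⟩) hχ
      have heq : (⟨_, hirr⟩ : Cfsg.IrrCharacter (⊤ : Subgroup G)) = φ := by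
        by_contra hne
        exact hφ (classInner_irr_of_ne hne)
      intro f
      rw [← hres f, ← heq]
    -- the next normal subgroup
    haveI : Group.IsNilpotent (G ⧸ K) :=
      nilpotent_of_surjective (QuotientGroup.map F K (MonoidHom.id G) hFK) fun q => by
        obtain ⟨g, rfl⟩ := QuotientGroup.mk_surjective q
        exact ⟨QuotientGroup.mk g, rfl⟩
    haveI : Nontrivial (G ⧸ K) := QuotientGroup.nontrivial_iff.mpr htop
    have hZ : Subgroup.center (G ⧸ K) ≠ ⊥ := Group.IsNilpotent.center_ne_bot _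
    obtain ⟨r, hr, hrd⟩ := Nat.exists_prime_and_dvd
      (show Nat.card (Subgroup.center (G ⧸ K)) ≠ 1 from fun h => hZ (Subgroup.card_eq_one.mp h))
    haveI := Fact.mk hr
    obtain ⟨⟨c, hc⟩, hco⟩ := exists_prime_orderOf_dvd_card' r hrd
    rw [Subgroup.orderOf_mk] at hco
    haveI hzn : (Subgroup.zpowers c).Normal := ⟨fun x hx g => by
      have hxc : x ∈ Subgroup.center (G ⧸ K) := Subgroup.zpowers_le.mpr hc hx
      rwa [Subgroup.mem_center_iff.mp hxc g, mul_inv_cancel_right]⟩
    set L := (Subgroup.zpowers c).comap (QuotientGroup.mk' K) with hLdef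
    haveI hL : L.Normal := hzn.comap _
    have hKL : K ≤ L := fun k hk => by
      rw [hLdef, Subgroup.mem_comap, QuotientGroup.mk'_apply, (QuotientGroup.eq_one_iff k).mpr hk]
      exact one_mem _
    haveI : IsCyclic (L ⧸ K.subgroupOf L) := by
      let f : L →* Subgroup.zpowers c :=
        { toFun := fun l => ⟨QuotientGroup.mk' K (l : G), l.2⟩
          map_one' := Subtype.ext (map_one _)
          map_mul' := fun x y => Subtype.ext (map_mul _ _ _) }
      have hker : f.ker = K.subgroupOf L := by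
        ext l
        rw [MonoidHom.mem_ker, Subgroup.mem_subgroupOf, Subtype.ext_iff]
        exact QuotientGroup.eq_one_iff (l : G)
      refine isCyclic_of_injective ((QuotientGroup.kerLift f).comp
        (QuotientGroup.quotientMulEquivOfEq hker.symm).toMonoidHom) ?_
      exact (QuotientGroup.kerLift_injective f).comp (MulEquiv.injective _)
    obtain ⟨η, hη⟩ := exists_constituent_restrict L hχ
    have hstep := restrict_step hχ hhom K L hKL φ hφ η hη
    refine ih L.index ?_ L hL (hFK.trans hKL) rfl η hη fun f => ?_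
    · rw [← hn]
      refine Subgroup.index_strictAnti (lt_of_le_of_ne hKL fun heq => ?_)
      have hc1 : c ≠ 1 := fun h => hr.ne_one (by rw [← hco, h, orderOf_one])
      obtain ⟨g, hg⟩ := QuotientGroup.mk_surjective c
      have hgL : g ∈ L := by
        rw [hLdef, Subgroup.mem_comap, QuotientGroup.mk'_apply, hg]
        exact Subgroup.mem_zpowers c
      rw [← heq] at hgL
      exact hc1 (hg ▸ (QuotientGroup.eq_one_iff g).mpr hgL)
    · exact (hstep ⟨(f : G), hFK f.2⟩).trans (hres f)

end Cfsg.Agent.Lib.PrimitiveMeta.Restrict
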