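import Mathlib

/-!
# Averaged fixed points of a nilpotent group acting on an abelian group

If a finite nilpotent group `B` acts on a finite abelian group `V` fixing only `1`, some element
of `B` has at most `√|V|` fixed points.
-/

set_option autoImplicit false

namespace Cfsg.Agent.Lib.PrimitiveMeta.Average

universe u w

variable {V : Type u} [CommGroup V] {B : Type w} [Group B]

/-- The fixed points of an automorphism. -/
def fix (α : MulAut V) : Subgroup V :=
  MonoidHom.eqLocus α.toMonoidHom (MonoidHom.id V)

theorem mem_fix {α : MulAut V} {v : V} : v ∈ fix α ↔ α v = v := Iff.rfl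

/-- The action on an invariant subgroup. -/
def restrictAut (f : B →* MulAut V) (S : Subgroup V) (hS : ∀ b, ∀ v ∈ S, f b v ∈ S) :
    B →* MulAut S where
  toFun b :=
    { toFun := fun v => ⟨f b v, hS b v v.2⟩
      invFun := fun v => ⟨f b⁻¹ v, hS b⁻¹ v v.2⟩
      left_inv := fun v => Subtype.ext (by simp [map_inv])
      right_inv := fun v => Subtype.ext (by simp [map_inv])
      map_mul' := fun x y => Subtype.ext (map_mul (f b) (x : V) y) }
  map_one' := MulEquiv.ext fun v => Subtype.ext (by simp)
  map_mul' a b := MulEquiv.ext fun v => Subtype.ext (by simp)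

theorem restrictAut_apply (f : B →* MulAut V) (S : Subgroup V) (hS : ∀ b, ∀ v ∈ S, f b v ∈ S)
    (b : B) (v : S) : (restrictAut f S hS b v : V) = f b v := rfl

theorem prod_fix_sq_le [Fintype B] [Group.IsNilpotent B] : ∀ (n : ℕ) (V : Type u) [CommGroup V]
    [Finite V], Nat.card V = n → ∀ f : B →* MulAut V, (∀ v, (∀ b, f b v = v) → v = 1) →
      (∏ b, Nat.card (fix (f b))) ^ 2 ≤ Nat.card V ^ Fintype.card B := by
  classical
  intro n
  induction n using Nat.strong_induction_on with
  | _ n ih =>
    intro V _ _ hn f hfix
    rcases subsingleton_or_nontrivial V with hV | hV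
    · have h1 : ∀ b, Nat.card (fix (f b)) = 1 := fun b => Nat.card_unique
      simp [h1]
    haveI : Group.IsNilpotent f.range :=
      nilpotent_of_surjective f.rangeRestrict f.rangeRestrict_surjective
    haveI : Nontrivial f.range := by
      rw [Subgroup.nontrivial_iff_ne_bot]
      intro h
      obtain ⟨v, hv⟩ := exists_ne (1 : V)
      refine hv (hfix v fun b => ?_)
      have : f b ∈ f.range := ⟨b, rfl⟩
      rw [h, Subgroup.mem_bot] at this
      rw [this]; rfl
    obtain ⟨⟨⟨ζ, z₀, rfl⟩, hcen⟩, hne⟩ := Subgroup.ne_bot_iff_exists_ne_one.mp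
      (Group.IsNilpotent.center_ne_bot f.range)
    have hζ : f z₀ ≠ 1 := fun h => hne (Subtype.ext (Subtype.ext h))
    have hc : ∀ b v, f b (f z₀ v) = f z₀ (f b v) := fun b v => by
      have := congrArg Subtype.val (Subgroup.mem_center_iff.mp hcen ⟨f b, b, rfl⟩)
      exact DFunLike.congr_fun this v
    let U := fix (f z₀)
    by_cases hU : U = ⊥
    · have hpair : ∀ b, Nat.card (fix (f b)) * Nat.card (fix (f (b * z₀))) ≤ Nat.card V := by
        intro b
        have hdis : Disjoint (fix (f b)) (fix (f (b * z₀))) := by
          rw [Subgroup.disjoint_def]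
          intro v h1 h2
          rw [mem_fix] at h1
          rw [mem_fix, map_mul, MulAut.mul_apply, hc] at h2
          rw [h1] at h2
          have : v ∈ U := h2
          rwa [hU, Subgroup.mem_bot] at this
        have := Nat.card_le_card_of_injective _ (Subgroup.mul_injective_of_disjoint hdis)
        rwa [Nat.card_prod] at this
      calc (∏ b, Nat.card (fix (f b))) ^ 2
          = ∏ b, Nat.card (fix (f b)) * Nat.card (fix (f (b * z₀))) := by
            rw [Finset.prod_mul_distrib, sq]
            congr 1
            exact (Equiv.prod_comp (Equiv.mulRight z₀) (fun b => Nat.card (fix (f b)))).symm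
        _ ≤ ∏ _b : B, Nat.card V := Finset.prod_le_prod' fun b _ => hpair b
        _ = Nat.card V ^ Fintype.card B := by rw [Finset.prod_const, Finset.card_univ]
    · let d : V →* V :=
        { toFun := fun v => f z₀ v / v
          map_one' := by simp
          map_mul' := fun x y => by rw [map_mul, mul_div_mul_comm] }
      have hker : d.ker = U := by
        ext v
        rw [MonoidHom.mem_ker]
        exact div_eq_one
      have hUinv : ∀ b, ∀ v ∈ U, f b v ∈ U := fun b v hv => by
        show f z₀ (f b v) = f b v
        rw [← hc, mem_fix.mp hv]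
      have hIinv : ∀ b, ∀ v ∈ d.range, f b v ∈ d.range := by
        rintro b _ ⟨v, rfl⟩
        refine ⟨f b v, ?_⟩
        show f z₀ (f b v) / f b v = f b (f z₀ v / v)
        rw [map_div, hc]
      have hUlt : Nat.card U < n := by
        rw [← hn]
        refine lt_of_le_of_ne (Subgroup.card_le_card_group U) fun h => hζ ?_
        have hUtop : U = ⊤ := Subgroup.eq_top_of_card_eq U h
        refine MulEquiv.ext fun v => ?_
        exact (hUtop ▸ Subgroup.mem_top v : v ∈ U)
      have hprod : Nat.card U * Nat.card d.range = Nat.card V := by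
        rw [← hker, ← Subgroup.index_ker, Subgroup.card_mul_index]
      have hIlt : Nat.card d.range < n := by
        rw [← hn, ← hprod]
        have h1 : 1 < Nat.card U := Subgroup.one_lt_card_iff_ne_bot U |>.mpr hU
        calc Nat.card d.range = 1 * Nat.card d.range := (one_mul _).symm
          _ < Nat.card U * Nat.card d.range := Nat.mul_lt_mul_of_pos_right h1 Nat.card_pos
      have hle : ∀ b, Nat.card (fix (f b)) ≤ Nat.card (fix (restrictAut f U hUinv b)) *
          Nat.card (fix (restrictAut f d.range hIinv b)) := by
        intro b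
        let d' : fix (f b) →* V := d.comp (fix (f b)).subtype
        rw [← Subgroup.card_mul_index d'.ker, Subgroup.index_ker]
        refine Nat.mul_le_mul (Nat.card_le_card_of_injective
          (fun x : d'.ker => (⟨⟨((x : fix (f b)) : V), hker ▸ (MonoidHom.mem_ker.mp x.2 :
            d ((x : fix (f b)) : V) = 1)⟩, Subtype.ext (x : fix (f b)).2⟩ :
              fix (restrictAut f U hUinv b))) ?_) (Nat.card_le_card_of_injective
          (fun y : d'.range => (⟨⟨(y : V), by obtain ⟨x, hx⟩ := y.2; exact ⟨x, hx⟩⟩, by
            obtain ⟨x, hx⟩ := y.2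
            refine Subtype.ext ?_
            show f b (y : V) = y
            rw [← hx]
            show f b (f z₀ x / x) = f z₀ x / x
            rw [map_div, hc, mem_fix.mp x.2]⟩ :
              fix (restrictAut f d.range hIinv b))) ?_)
        · intro x y h
          exact Subtype.ext (Subtype.ext (congrArg (fun t => ((t : U) : V)) (congrArg Subtype.val h)))
        · intro x y h
          exact Subtype.ext (congrArg (fun t => ((t : d.range) : V)) (congrArg Subtype.val h))
      have i1 := ih _ hUlt U rfl (restrictAut f U hUinv) fun v hv =>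
        Subtype.ext (hfix v fun b => congrArg Subtype.val (hv b))
      have i2 := ih _ hIlt d.range rfl (restrictAut f d.range hIinv) fun v hv =>
        Subtype.ext (hfix v fun b => congrArg Subtype.val (hv b))
      calc (∏ b, Nat.card (fix (f b))) ^ 2
          ≤ (∏ b, Nat.card (fix (restrictAut f U hUinv b)) *
              Nat.card (fix (restrictAut f d.range hIinv b))) ^ 2 :=
            Nat.pow_le_pow_left (Finset.prod_le_prod' fun b _ => hle b) 2
        _ ≤ Nat.card U ^ Fintype.card B * Nat.card d.range ^ Fintype.card B := by
            rw [Finset.prod_mul_distrib, mul_pow]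
            exact Nat.mul_le_mul i1 i2
        _ = Nat.card V ^ Fintype.card B := by rw [← mul_pow, hprod]

/-- Some element fixes at most the square root. -/
theorem exists_fix_sq_le [Finite B] [Group.IsNilpotent B] [Finite V] (f : B →* MulAut V)
    (hfix : ∀ v, (∀ b, f b v = v) → v = 1) : ∃ b, Nat.card (fix (f b)) ^ 2 ≤ Nat.card V := by
  classical
  haveI := Fintype.ofFinite B
  by_contra h
  push Not at h
  have h1 := prod_fix_sq_le _ V rfl f hfix
  rw [← Finset.prod_pow] at h1
  have h2 : ∏ _b : B, Nat.card V < ∏ b : B, Nat.card (fix (f b)) ^ 2 :=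
    Finset.prod_lt_prod_of_nonempty (fun b _ => Nat.card_pos) (fun b _ => h b) Finset.univ_nonempty
  rw [Finset.prod_const, Finset.card_univ] at h2
  omega

end Cfsg.Agent.Lib.PrimitiveMeta.Average
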