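import Cfsg.Agent.Lib.PrimitiveMeta.Restrict
import Cfsg.Agent.Lib.MathieuBlocks.Values

/-!
# The Fitting part of a group with a primitive character

The normal nilpotent subgroup on which the character stays irreducible has its derived subgroup
acting by scalars, and the character vanishes on it outside the scalar elements.
-/

set_option autoImplicit false

namespace Cfsg.Agent.Lib.PrimitiveMeta.Structure

open Cfsg.Agent.Lib Cfsg.Agent.Lib.Characters.Basic Cfsg.Agent.Lib.PrimitiveMeta.Restrict
open scoped commutatorElement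

universe u

variable {G : Type u} [Group G] [Fintype G] {n : ℕ} (ρ : Representation ℂ G (Fin n → ℂ))

/-- The image in the units of the endomorphisms. -/
noncomputable def img : G →* (Module.End ℂ (Fin n → ℂ))ˣ :=
  MonoidHom.toHomUnits (ρ : G →* Module.End ℂ (Fin n → ℂ))

theorem coe_img (g : G) : (img ρ g : Module.End ℂ (Fin n → ℂ)) = ρ g := rfl

/-- The elements acting by scalars. -/
noncomputable def scal : Subgroup G where
  carrier := {g | ∃ c : ℂ, ρ g = c • (1 : Module.End ℂ (Fin n → ℂ))}
  one_mem' := ⟨1, by rw [map_one, one_smul]⟩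
  mul_mem' := fun {a b} ⟨c, hc⟩ ⟨d, hd⟩ => ⟨c * d, by
    rw [map_mul, hc, hd, smul_mul_smul_comm, one_mul]⟩
  inv_mem' := fun {a} ⟨c, hc⟩ => ⟨c⁻¹, by
    rcases eq_or_ne c 0 with rfl | hc0
    · have h1 : ρ a⁻¹ * ρ a = 1 := by rw [← map_mul, inv_mul_cancel, map_one]
      rw [hc, zero_smul, mul_zero] at h1
      rw [← mul_one (ρ a⁻¹), inv_zero, zero_smul, ← h1, mul_zero]
    · have hinv : ρ a⁻¹ * ρ a = 1 := by rw [← map_mul, inv_mul_cancel, map_one]
      rw [hc, mul_smul_comm, mul_one] at hinv
      rw [← hinv, smul_smul, inv_mul_cancel₀ hc0, one_smul]⟩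

theorem scal_comm {z : G} (hz : z ∈ scal ρ) (g : G) : img ρ z * img ρ g = img ρ g * img ρ z := by
  obtain ⟨c, hc⟩ := hz
  refine Units.ext ?_
  rw [Units.val_mul, Units.val_mul, coe_img, coe_img, hc, smul_mul_assoc, mul_smul_comm, one_mul,
    mul_one]

instance scal_normal : (scal ρ).Normal := ⟨fun z hz g => by
  obtain ⟨c, hc⟩ := hz
  exact ⟨c, by rw [map_mul, map_mul, hc, mul_smul_comm, mul_one, smul_mul_assoc, ← map_mul,
    mul_inv_cancel, map_one]⟩⟩

variable [ρ.IsIrreducible] (hhom : Homogeneous ρ.character)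
include hhom

/-- A normal subgroup whose elements commute in the representation acts by scalars. -/
theorem le_scal_of_commute (A : Subgroup G) [A.Normal]
    (hcomm : ∀ a ∈ A, ∀ b ∈ A, img ρ a * img ρ b = img ρ b * img ρ a) : A ≤ scal ρ := by
  classical
  haveI := Fintype.ofFinite A
  obtain ⟨φ, hφ⟩ := Clifford.Basic.exists_constituent_restrict A (isIrrCharacter_character ρ)
  obtain ⟨-, hsc⟩ := Clifford.Monomial.scalar_of_commute ρ A φ hφ
    (hhom A inferInstance inferInstance φ hφ)
    (fun a b => congrArg Units.val (hcomm a a.2 b b.2))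
  intro a ha
  exact hsc ⟨a, ha⟩

/-- The derived subgroup of a normal nilpotent subgroup acts by scalars. -/
theorem commutator_le_scal (F : Subgroup G) [F.Normal] [Group.IsNilpotent F] :
    ⁅F, F⁆ ≤ scal ρ := by
  suffices h : ∀ k, F.lowerCentralSeries (k + 1) ≤ scal ρ by simpa using h 0
  obtain ⟨N, hN⟩ := F.isNilpotent_iff_lowerCentralSeries.mp inferInstance
  suffices h : ∀ j k, N ≤ k + j → F.lowerCentralSeries (k + 1) ≤ scal ρ from
    fun k => h N k (Nat.le_add_left _ _)
  intro j
  induction j with
  | zero =>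
    intro k hk
    refine (Subgroup.lowerCentralSeries_antitone F (show N ≤ k + 1 by omega)).trans ?_
    rw [hN]; exact bot_le
  | succ j ih =>
    intro k hk
    have hnext : F.lowerCentralSeries (k + 1 + 1) ≤ scal ρ := ih (k + 1) (by omega)
    have hsub : ∀ i, F.lowerCentralSeries (i + 1) ≤ ⁅F, F⁆ := fun i => by
      refine (Subgroup.lowerCentralSeries_antitone F (show 1 ≤ i + 1 by omega)).trans ?_
      simp
    -- elements of the term commute with the derived subgroup
    have key : ∀ c ∈ F.lowerCentralSeries (k + 1), ∀ x ∈ ⁅F, F⁆,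
        img ρ c * img ρ x = img ρ x * img ρ c := by
      intro c hc x hx
      have hle : ⁅F, F⁆ ≤ (Subgroup.centralizer ({img ρ c} : Set _)).comap (img ρ) := by
        rw [Subgroup.commutator_le]
        intro a ha b hb
        rw [Subgroup.mem_comap, Subgroup.mem_centralizer_singleton_iff]
        have ht : ∀ d ∈ F, ∃ t, (∀ g, t * img ρ g = img ρ g * t) ∧
            img ρ c * img ρ d * (img ρ c)⁻¹ = t * img ρ d := fun d hd => by
          refine ⟨img ρ ⁅c, d⁆, fun g => scal_comm ρ (hnext ?_) g, ?_⟩
          · rw [Subgroup.lowerCentralSeries_succ]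
            exact Subgroup.commutator_mem_commutator hc hd
          · rw [← map_inv, ← map_mul, ← map_mul, ← map_mul, commutatorElement_def]
            congr 1
            group
        obtain ⟨t, htc, hta⟩ := ht a ha
        obtain ⟨s, hsc, hsb⟩ := ht b hb
        have hab : img ρ ⁅a, b⁆ = (img ρ a * img ρ b) * (img ρ b * img ρ a)⁻¹ := by
          rw [← map_mul, ← map_mul, ← map_inv, ← map_mul, commutatorElement_def]
          congr 1
          group
        have hts : t * s = s * t := by
          have h1 := htc (c * b * c⁻¹)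
          rw [map_mul, map_mul, map_inv, hsb, ← mul_assoc, mul_assoc s (img ρ b) t, ← htc b,
            ← mul_assoc] at h1
          exact mul_right_cancel h1
        have h2 : img ρ c * img ρ ⁅a, b⁆ * (img ρ c)⁻¹ = img ρ ⁅a, b⁆ := by
          rw [hab]
          calc img ρ c * (img ρ a * img ρ b * (img ρ b * img ρ a)⁻¹) * (img ρ c)⁻¹
              = (img ρ c * img ρ a * (img ρ c)⁻¹) * (img ρ c * img ρ b * (img ρ c)⁻¹) *
                ((img ρ c * img ρ b * (img ρ c)⁻¹) * (img ρ c * img ρ a * (img ρ c)⁻¹))⁻¹ := by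
                group
            _ = (t * img ρ a) * (s * img ρ b) * ((s * img ρ b) * (t * img ρ a))⁻¹ := by
                rw [hta, hsb]
            _ = (t * s) * (img ρ a * img ρ b) * ((s * t) * (img ρ b * img ρ a))⁻¹ := by
                rw [show t * img ρ a * (s * img ρ b) = t * (img ρ a * s) * img ρ b by group,
                  show s * img ρ b * (t * img ρ a) = s * (img ρ b * t) * img ρ a by group,
                  ← hsc a, ← htc b]
                group
            _ = (t * s) * (img ρ a * img ρ b * (img ρ b * img ρ a)⁻¹) * (s * t)⁻¹ := by group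
            _ = _ := by
                have hc2 : (t * s) * (img ρ a * img ρ b * (img ρ b * img ρ a)⁻¹) =
                    (img ρ a * img ρ b * (img ρ b * img ρ a)⁻¹) * (t * s) := by
                  rw [← hab, mul_assoc, hsc, ← mul_assoc, htc, mul_assoc]
                rw [hc2, ← hts, mul_inv_cancel_right]
        exact (mul_inv_eq_iff_eq_mul.mp h2).symm
      exact (Subgroup.mem_centralizer_singleton_iff.mp (Subgroup.mem_comap.mp (hle hx))).symm
    exact le_scal_of_commute ρ hhom _ fun a ha b hb => key a ha b (hsub k hb)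

omit hhom in
theorem exists_norm_one {z : G} {c : ℂ} (hc : ρ z = c • (1 : Module.End ℂ (Fin n → ℂ))) :
    ‖ρ.character z‖ = n := by
  refine (Characters.Diag.norm_char_eq_finrank_iff ρ z).mpr ⟨c, hc⟩ |>.trans ?_
  rw [Module.finrank_fin_fun]

/-- Outside the scalar elements the character vanishes on the subgroup. -/
theorem apply_eq_zero (F : Subgroup G) [F.Normal] [Group.IsNilpotent F]
    (hirr : Cfsg.IsIrrCharacter F (fun f : F => ρ.character f)) {x : G} (hxF : x ∈ F)
    (hx : x ∉ scal ρ) : ρ.character x = 0 := by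
  classical
  haveI := Fintype.ofFinite F
  obtain ⟨k, τ, hτ, hτc⟩ := hirr
  let σ : Representation ℂ F (Fin n → ℂ) := (ρ : G →* _).comp F.subtype
  haveI : σ.IsIrreducible := Clifford.Rep.isIrreducible_of_char τ σ (hτc ▸ rfl)
  obtain ⟨y, hyF, hy⟩ : ∃ y ∈ F, ρ x * ρ y ≠ ρ y * ρ x := by
    by_contra h
    push Not at h
    exact hx (Clifford.Rep.schur σ (ρ x) fun g => h g g.2)
  obtain ⟨c, hc⟩ := commutator_le_scal ρ hhom F (Subgroup.commutator_mem_commutator hyF hxF)
  have h1 : ρ (y * x * y⁻¹) = c • ρ x := by
    rw [show y * x * y⁻¹ = ⁅y, x⁆ * x by rw [commutatorElement_def]; group, map_mul, hc,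
      smul_mul_assoc, one_mul]
  have h2 : ρ.character x = c * ρ.character x :=
    calc ρ.character x = ρ.character (y * x * y⁻¹) := (Representation.char_conj ρ x y).symm
      _ = c * ρ.character x := by
        simp only [Representation.character, h1, map_smul, smul_eq_mul]
  by_contra hne
  have hc1 : c = 1 := (mul_eq_right₀ hne).mp h2.symm
  rw [hc1, one_smul] at h1
  apply hy
  have h3 : ρ (y * x * y⁻¹) * ρ y = ρ x * ρ y := by rw [h1]
  rw [← map_mul, inv_mul_cancel_right, map_mul] at h3
  exact h3.symm

/-- The square of the degree times the number of scalar elements is the order. -/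
theorem degree_sq_mul_card (F : Subgroup G) [F.Normal] [Group.IsNilpotent F]
    (hirr : Cfsg.IsIrrCharacter F (fun f : F => ρ.character f)) :
    n * n * Nat.card ((scal ρ).subgroupOf F) = Nat.card F := by
  classical
  haveI := Fintype.ofFinite F
  have h := MathieuBlocks.Values.sum_normSq_irr (⟨_, hirr⟩ : Cfsg.IrrCharacter F)
  have hval : ∀ f : F, Complex.normSq (ρ.character f) =
      if f ∈ (scal ρ).subgroupOf F then ((n * n : ℕ) : ℝ) else 0 := by
    intro f
    split_ifs with hf
    · obtain ⟨c, hc⟩ := Subgroup.mem_subgroupOf.mp hf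
      rw [Complex.normSq_eq_norm_sq, exists_norm_one ρ hc]
      push_cast; ring
    · rw [apply_eq_zero ρ hhom F hirr f.2 fun hh => hf (Subgroup.mem_subgroupOf.mpr hh), map_zero]
  simp only [hval] at h
  rw [← Finset.sum_filter, Finset.sum_const, nsmul_eq_mul, ← Fintype.card_subtype] at h
  have h' : Nat.card ((scal ρ).subgroupOf F) * (n * n) = Nat.card F := by
    rw [Nat.card_eq_fintype_card (α := (scal ρ).subgroupOf F)]
    exact_mod_cast h
  rw [mul_comm, h']

end Cfsg.Agent.Lib.PrimitiveMeta.Structure
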