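import Cfsg.Agent.Lib.PrimitiveMeta.Average
import Cfsg.Agent.Lib.PrimitiveMeta.Structure
import Cfsg.Agent.Lib.Cores.Basic

/-!
# Degrees of primitive characters of metanilpotent groups with two prime divisors

Each primary part of the Fitting subgroup modulo the scalar elements is an abelian group on which
the Sylow subgroup of the other prime has only trivial fixed points, so one element moves enough.
-/

set_option autoImplicit false

namespace Cfsg.Agent.Lib.PrimitiveMeta.Main

open Cfsg.Agent.Lib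
open scoped commutatorElement

universe u

variable {G : Type u} [Group G] [Fintype G]

/-- Conjugation on the quotient of a normal subgroup by a normal subgroup. -/
noncomputable def conjQ (E Z : Subgroup G) [E.Normal] [Z.Normal] :
    G →* MulAut (E ⧸ Z.subgroupOf E) where
  toFun g := QuotientGroup.congr _ _ (MulAut.conjNormal g) (by
    ext x
    change x ∈ Subgroup.map (MulAut.conjNormal g).toMonoidHom _ ↔ _
    rw [Subgroup.mem_map_equiv, Subgroup.mem_subgroupOf, Subgroup.mem_subgroupOf,
      MulAut.conjNormal_symm_apply]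
    refine ⟨fun h => ?_, fun h => ?_⟩
    · have := Subgroup.Normal.conj_mem inferInstance _ h g
      simpa [mul_assoc] using this
    · have := Subgroup.Normal.conj_mem inferInstance _ h g⁻¹
      simpa [mul_assoc] using this)
  map_one' := by
    refine MulEquiv.ext fun v => ?_
    induction v using QuotientGroup.induction_on with
    | _ x => exact congrArg QuotientGroup.mk (Subtype.ext (by simp))
  map_mul' a b := by
    refine MulEquiv.ext fun v => ?_
    induction v using QuotientGroup.induction_on with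
    | _ x => exact congrArg QuotientGroup.mk (Subtype.ext (by simp [mul_assoc]))

theorem conjQ_mk (E Z : Subgroup G) [E.Normal] [Z.Normal] (g : G) (x : E) :
    conjQ E Z g (QuotientGroup.mk x) = QuotientGroup.mk (MulAut.conjNormal g x) := rfl

/-- One prime. -/
theorem half {p q : ℕ} [Fact p.Prime] [Fact q.Prime] (hpq : p ≠ q)
    (hpi : ∀ r : ℕ, r.Prime → r ∣ Nat.card G → r = p ∨ r = q)
    (E F Z : Subgroup G) [E.Normal] [F.Normal] [Z.Normal] (hE : IsPGroup p E) (hEF : E ≤ F)
    (hder : ⁅F, F⁆ ≤ Z) (hcen : ∀ x ∈ E, (∀ g : G, ⁅g, x⁆ ∈ Z) → x ∈ Z)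
    (P : Sylow p G) (Q : Sylow q G)
    (hab : ∀ a ∈ (P : Subgroup G), ∀ b ∈ (Q : Subgroup G),
      Commute (a : G ⧸ F) (b : G ⧸ F)) :
    ∃ b ∈ (Q : Subgroup G), ∀ g : G, (∃ n : ℕ, (g : G ⧸ F) ^ n = (b : G ⧸ F)) →
      ∃ d, (∃ k, d = p ^ k) ∧ (Z.subgroupOf E).index ∣ d ^ 2 ∧
        d ∣ (Subgroup.centralizer ({g} : Set G)).index := by
  classical
  let N := Z.subgroupOf E
  let f : G →* MulAut (E ⧸ N) := conjQ E Z
  letI : CommGroup (E ⧸ N) :=
    { (inferInstance : Group (E ⧸ N)) with
      mul_comm := fun v w => by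
        induction v using QuotientGroup.induction_on with
        | _ x =>
          induction w using QuotientGroup.induction_on with
          | _ y =>
            rw [← QuotientGroup.mk_mul, ← QuotientGroup.mk_mul, QuotientGroup.eq,
              Subgroup.mem_subgroupOf]
            refine hder ?_
            have : ((x * y)⁻¹ * (y * x) : E) = (⁅y⁻¹, x⁻¹⁆ : E) := by
              rw [commutatorElement_def]; group
            rw [this]
            exact Subgroup.commutator_mem_commutator (inv_mem (hEF y.2)) (inv_mem (hEF x.2)) }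
  have hfF : ∀ h ∈ F, f h = 1 := fun h hh => by
    refine MulEquiv.ext fun v => ?_
    induction v using QuotientGroup.induction_on with
    | _ x =>
      rw [show f h (QuotientGroup.mk x) = _ from conjQ_mk E Z h x, MulAut.one_apply,
        QuotientGroup.eq, Subgroup.mem_subgroupOf]
      refine hder ?_
      have : (((MulAut.conjNormal h x)⁻¹ * x : E) : G) = ⁅h, (x : G)⁻¹⁆ := by
        rw [Subgroup.coe_mul, Subgroup.coe_inv, MulAut.conjNormal_apply, commutatorElement_def]
        group
      rw [this]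
      exact Subgroup.commutator_mem_commutator hh (inv_mem (hEF x.2))
  have hfeq : ∀ g h : G, (g : G ⧸ F) = (h : G ⧸ F) → f g = f h := fun g h hgh => by
    have := hfF _ (QuotientGroup.eq.mp hgh)
    rw [map_mul, map_inv, inv_mul_eq_one] at this
    exact this
  -- a vector fixed by everything is trivial
  have hall : ∀ v : E ⧸ N, (∀ g, f g v = v) → v = 1 := by
    intro v hv
    induction v using QuotientGroup.induction_on with
    | _ x =>
      rw [QuotientGroup.eq_one_iff, Subgroup.mem_subgroupOf]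
      refine hcen _ x.2 fun g => ?_
      have h1 := hv g
      rw [show f g (QuotientGroup.mk x) = _ from conjQ_mk E Z g x, eq_comm, QuotientGroup.eq,
        Subgroup.mem_subgroupOf, Subgroup.coe_mul, Subgroup.coe_inv, MulAut.conjNormal_apply] at h1
      have h2 := Subgroup.Normal.conj_mem inferInstance _ h1 (x : G)
      convert h2 using 1
      rw [commutatorElement_def]; group
  have hV : IsPGroup p (E ⧸ N) := hE.to_quotient N
  have hQfix : ∀ v : E ⧸ N, (∀ b : (Q : Subgroup G), f b v = v) → v = 1 := by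
    let S : Subgroup (E ⧸ N) := ⨅ b : (Q : Subgroup G), Average.fix (f b)
    have hmem : ∀ v, v ∈ S ↔ ∀ b : (Q : Subgroup G), f b v = v := fun v => Subgroup.mem_iInf
    intro v hv
    by_contra hne
    letI : MulAction P S :=
      { smul := fun a w => ⟨f (a : G) w, (hmem _).mpr fun b => by
          have hc : f b * f a = f a * f b := by
            rw [← map_mul, ← map_mul]
            exact hfeq _ _ (hab a a.2 b b.2).symm
          calc f b (f a w) = (f b * f a) w := rfl
            _ = (f a * f b) w := by rw [hc]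
            _ = f a w := congrArg (f a) ((hmem _).mp w.2 b)⟩
        one_smul := fun w => Subtype.ext (by
          show f ((1 : (P : Subgroup G)) : G) w = w
          simp)
        mul_smul := fun a b w => Subtype.ext (by
          show f ((a * b : (P : Subgroup G)) : G) w = f a (f b w)
          simp) }
    have hS : p ∣ Nat.card S := by
      refine ((hV.to_subgroup S).card_eq_or_dvd).resolve_left fun h1 => hne ?_
      have : v ∈ S := (hmem v).mpr hv
      rwa [Subgroup.card_eq_one.mp h1, Subgroup.mem_bot] at this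
    obtain ⟨w, hw, hw1⟩ := P.isPGroup'.exists_fixed_point_of_prime_dvd_card_of_fixed_point S hS
      (a := (1 : S)) (fun a => Subtype.ext (map_one (f (a : G))))
    refine hw1 (Subtype.ext (hall (w : E ⧸ N) fun g => ?_).symm)
    let H : Subgroup G :=
      { carrier := {g | f g (w : E ⧸ N) = w}
        one_mem' := by simp
        mul_mem' := fun {a b} ha hb => by
          simp only [Set.mem_ofPred_eq] at ha hb ⊢
          rw [map_mul, MulAut.mul_apply, hb, ha]
        inv_mem' := fun {a} ha => by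
          simp only [Set.mem_ofPred_eq] at ha ⊢
          conv_lhs => rw [← ha]
          rw [← MulAut.mul_apply, ← map_mul, inv_mul_cancel, map_one, MulAut.one_apply] }
    have hPH : (P : Subgroup G) ≤ H := fun a ha => congrArg Subtype.val (hw ⟨a, ha⟩)
    have hQH : (Q : Subgroup G) ≤ H := fun b hb => (hmem _).mp w.2 ⟨b, hb⟩
    have htop : H.index = 1 := by
      refine Nat.eq_one_iff_not_exists_prime_dvd.2 fun r hr hdvd => ?_
      rcases hpi r hr (hdvd.trans H.index_dvd_card) with rfl | rfl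
      · exact P.not_dvd_index (hdvd.trans (Subgroup.index_dvd_of_le hPH))
      · exact Q.not_dvd_index (hdvd.trans (Subgroup.index_dvd_of_le hQH))
    exact (Subgroup.index_eq_one.mp htop ▸ Subgroup.mem_top g : g ∈ H)
  haveI : Group.IsNilpotent (Q : Subgroup G) := Q.isPGroup'.isNilpotent
  obtain ⟨b, hb⟩ := Average.exists_fix_sq_le (f.comp (Q : Subgroup G).subtype) hQfix
  refine ⟨b, b.2, fun g ⟨n, hn⟩ => ⟨(Average.fix (f (b : G))).index, ?_, ?_, ?_⟩⟩
  · obtain ⟨m, hm⟩ := IsPGroup.iff_card.mp hV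
    obtain ⟨i, -, hi⟩ := (Nat.dvd_prime_pow Fact.out).mp
      (hm ▸ (Average.fix (f (b : G))).index_dvd_card)
    exact ⟨i, hi⟩
  · obtain ⟨m, hm⟩ := IsPGroup.iff_card.mp hV
    obtain ⟨i, -, hi⟩ := (Nat.dvd_prime_pow Fact.out).mp
      (hm ▸ (Average.fix (f (b : G))).index_dvd_card)
    have h1 : Nat.card (Average.fix (f (b : G))) * p ^ i = p ^ m := by
      rw [← hi, Subgroup.card_mul_index, hm]
    have h2 : Nat.card (Average.fix (f (b : G))) ^ 2 ≤ p ^ m := hm ▸ hb
    show Nat.card (E ⧸ N) ∣ _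
    rw [hm, hi, ← pow_mul]
    refine Nat.pow_dvd_pow p ?_
    by_contra hlt
    have h3 : (p ^ m) ^ 2 ≤ p ^ m * (p ^ i) ^ 2 := by
      calc (p ^ m) ^ 2 = Nat.card (Average.fix (f (b : G))) ^ 2 * (p ^ i) ^ 2 := by
            rw [← mul_pow, h1]
        _ ≤ p ^ m * (p ^ i) ^ 2 := Nat.mul_le_mul_right _ h2
    rw [← pow_mul, ← pow_mul, ← pow_add] at h3
    have := (Nat.pow_le_pow_iff_right (Fact.out : p.Prime).one_lt).mp h3
    omega
  · -- the centralizer is inside the fixed points
    have hgb : f g ^ n = f (b : G) := by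
      rw [← map_pow]
      exact hfeq _ _ (by rw [QuotientGroup.mk_pow]; exact hn)
    have hle : Average.fix (f g) ≤ Average.fix (f (b : G)) := fun v hv => by
      rw [Average.mem_fix, ← hgb]
      clear hgb hn
      induction n with
      | zero => rfl
      | succ k ih => rw [pow_succ, MulAut.mul_apply, Average.mem_fix.mp hv]; exact ih
    set C := Subgroup.centralizer ({g} : Set G)
    have hC : (C.subgroupOf E).map (QuotientGroup.mk' N) ≤ Average.fix (f g) := by
      rintro _ ⟨x, hx, rfl⟩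
      refine Average.mem_fix.mpr ?_
      rw [QuotientGroup.mk'_apply, show f g (QuotientGroup.mk x) = _ from conjQ_mk E Z g x]
      refine congrArg QuotientGroup.mk (Subtype.ext ?_)
      rw [MulAut.conjNormal_apply, ← Subgroup.mem_centralizer_singleton_iff.mp
        (Subgroup.mem_subgroupOf.mp hx), mul_inv_cancel_right]
    refine (Subgroup.index_dvd_of_le (hC.trans hle)).trans ?_
    refine (Subgroup.index_map_dvd _ (QuotientGroup.mk'_surjective N)).trans ?_
    show C.relIndex E ∣ C.index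
    have h1 : C.relIndex E * E.index = E.relIndex C * C.index := by
      rw [← Subgroup.inf_relIndex_right C E, ← Subgroup.inf_relIndex_right E C, inf_comm E C,
        Subgroup.relIndex_mul_index inf_le_right, Subgroup.relIndex_mul_index inf_le_left]
    obtain ⟨k, hk⟩ := E.relIndex_dvd_index_of_normal (K := C)
    refine Dvd.intro k (Nat.eq_of_mul_eq_mul_left
      (Nat.pos_of_dvd_of_pos ⟨k, hk⟩ (Nat.pos_of_ne_zero E.index_ne_zero_of_finite)) ?_)
    rw [← h1, hk, mul_left_comm]

theorem degree_dvd_class {n : ℕ} (ρ : Representation ℂ G (Fin n → ℂ)) [ρ.IsIrreducible]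
    (hhom : Restrict.Homogeneous ρ.character) (h2 : (Nat.card G).primeFactors.card = 2)
    (F : Subgroup G) [F.Normal] (hF : F = Cfsg.fittingSubgroup G)
    (hmeta : Group.IsNilpotent (G ⧸ F)) :
    ∃ g : G, n ∣ (Subgroup.centralizer ({g} : Set G)).index := by
  classical
  haveI : Group.IsNilpotent F := hF ▸ Cores.fittingSubgroup_isNilpotent
  have hirr := Restrict.isIrr_restrict (Characters.Basic.isIrrCharacter_character ρ) hhom F hmeta
  obtain ⟨p, q, hpq, hset⟩ := Finset.card_eq_two.mp h2
  haveI hp : Fact p.Prime := ⟨Nat.prime_of_mem_primeFactors (hset ▸ Finset.mem_insert_self p {q})⟩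
  haveI hq : Fact q.Prime := ⟨Nat.prime_of_mem_primeFactors
    (hset ▸ Finset.mem_insert_of_mem (Finset.mem_singleton_self q))⟩
  have hpi : ∀ r : ℕ, r.Prime → r ∣ Nat.card G → r = p ∨ r = q := fun r hr hd => by
    have : r ∈ (Nat.card G).primeFactors := Nat.mem_primeFactors.mpr ⟨hr, hd, Nat.card_pos.ne'⟩
    rw [hset] at this
    simpa using this
  let Z := Structure.scal ρ
  have hder : ⁅F, F⁆ ≤ Z := Structure.commutator_le_scal ρ hhom F
  have hcen : ∀ x : G, (∀ g : G, ⁅g, x⁆ ∈ Z) → x ∈ Z := by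
    intro x hx
    let A := Subgroup.zpowers x ⊔ Z
    haveI : A.Normal := by
      refine ⟨fun a ha g => ?_⟩
      suffices h : A.map (MulAut.conj g).toMonoidHom ≤ A from h ⟨a, ha, rfl⟩
      rw [Subgroup.map_sup]
      refine sup_le ?_ ?_
      · rw [MonoidHom.map_zpowers, Subgroup.zpowers_le]
        show g * x * g⁻¹ ∈ A
        rw [show g * x * g⁻¹ = ⁅g, x⁆ * x by rw [commutatorElement_def]; group]
        exact mul_mem (Subgroup.mem_sup_right (hx g))
          (Subgroup.mem_sup_left (Subgroup.mem_zpowers x))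
      · rintro _ ⟨z, hz, rfl⟩
        exact Subgroup.mem_sup_right (Subgroup.Normal.conj_mem inferInstance z hz g)
    have hcl : ∀ a : G, Structure.img ρ x * Structure.img ρ a =
        Structure.img ρ a * Structure.img ρ x →
        A ≤ (Subgroup.centralizer {Structure.img ρ a}).comap (Structure.img ρ) := fun a ha =>
      sup_le (Subgroup.zpowers_le.mpr (Subgroup.mem_comap.mpr
        (Subgroup.mem_centralizer_singleton_iff.mpr ha))) fun z hz => Subgroup.mem_comap.mpr
        (Subgroup.mem_centralizer_singleton_iff.mpr (Structure.scal_comm ρ hz a))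
    have hax : ∀ a ∈ A, Structure.img ρ x * Structure.img ρ a =
        Structure.img ρ a * Structure.img ρ x := fun a ha =>
      (Subgroup.mem_centralizer_singleton_iff.mp (Subgroup.mem_comap.mp (hcl x rfl ha))).symm
    exact Structure.le_scal_of_commute ρ hhom A
      (fun a ha b hb => Subgroup.mem_centralizer_singleton_iff.mp
        (Subgroup.mem_comap.mp (hcl b (hax b hb) ha)))
      (Subgroup.mem_sup_left (Subgroup.mem_zpowers x))
  obtain ⟨P⟩ : Nonempty (Sylow p G) := inferInstance
  obtain ⟨Q⟩ : Nonempty (Sylow q G) := inferInstance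
  have hab : ∀ a ∈ (P : Subgroup G), ∀ b ∈ (Q : Subgroup G),
      Commute (a : G ⧸ F) (b : G ⧸ F) := by
    intro a ha b hb
    obtain ⟨P', hP'⟩ := (P.isPGroup'.map (QuotientGroup.mk' F)).exists_le_sylow
    obtain ⟨Q', hQ'⟩ := (Q.isPGroup'.map (QuotientGroup.mk' F)).exists_le_sylow
    haveI := hmeta
    haveI h1 : (P' : Subgroup (G ⧸ F)).Normal := inferInstance
    haveI h2 : (Q' : Subgroup (G ⧸ F)).Normal := inferInstance
    exact Subgroup.commute_of_normal_of_disjoint _ _ h1 h2
      (IsPGroup.disjoint_of_ne p q hpq _ _ P'.isPGroup' Q'.isPGroup') _ _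
      (hP' ⟨a, ha, rfl⟩) (hQ' ⟨b, hb, rfl⟩)
  have hEp : Cfsg.pCore p G ≤ F := hF ▸ Cores.pCore_le_fittingSubgroup p
  have hEq : Cfsg.pCore q G ≤ F := hF ▸ Cores.pCore_le_fittingSubgroup q
  haveI hnp : (Cfsg.pCore p G).Normal := inferInstance
  haveI hnq : (Cfsg.pCore q G).Normal := inferInstance
  obtain ⟨b, hb, hb'⟩ := half hpq hpi (Cfsg.pCore p G) F Z (Cores.pCore_isPGroup p) hEp hder
    (fun x _ => hcen x) P Q hab
  obtain ⟨a, ha, ha'⟩ := half hpq.symm (fun r hr hd => (hpi r hr hd).symm) (Cfsg.pCore q G) F Z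
    (Cores.pCore_isPGroup q) hEq hder (fun x _ => hcen x) Q P
    (fun b hb a ha => (hab a ha b hb).symm)
  obtain ⟨i, hi⟩ := IsPGroup.iff_orderOf.mp P.isPGroup' ⟨a, ha⟩
  obtain ⟨j, hj⟩ := IsPGroup.iff_orderOf.mp Q.isPGroup' ⟨b, hb⟩
  rw [Subgroup.orderOf_mk] at hi hj
  have ha1 : (a : G ⧸ F) ^ p ^ i = 1 := by
    rw [← QuotientGroup.mk_pow, ← hi, pow_orderOf_eq_one, QuotientGroup.mk_one]
  have hb1 : (b : G ⧸ F) ^ q ^ j = 1 := by
    rw [← QuotientGroup.mk_pow, ← hj, pow_orderOf_eq_one, QuotientGroup.mk_one]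
  have hco : Nat.Coprime (p ^ i) (q ^ j) :=
    ((Nat.coprime_primes hp.out hq.out).mpr hpq).pow i j
  have key : ∀ (x y : G ⧸ F) (u v : ℕ), Commute x y → x ^ u = 1 → y ^ v = 1 → u.Coprime v →
      ∃ m : ℕ, (x * y) ^ m = y := by
    intro x y u v hxy hx hy hco
    obtain ⟨m, hm0, hm1⟩ := Nat.chineseRemainder hco 0 1
    refine ⟨m, ?_⟩
    rw [hxy.mul_pow, orderOf_dvd_iff_pow_eq_one.mp
      ((orderOf_dvd_of_pow_eq_one hx).trans (Nat.modEq_zero_iff_dvd.mp hm0)), one_mul]
    conv_rhs => rw [← pow_one y]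
    exact pow_eq_pow_iff_modEq.mpr (hm1.of_dvd (orderOf_dvd_of_pow_eq_one hy))
  have hc := hab a ha b hb
  obtain ⟨dp, ⟨kp, hdp⟩, hVp, hdp'⟩ := hb' (a * b) (by
    obtain ⟨m, hm⟩ := key _ _ _ _ hc ha1 hb1 hco
    exact ⟨m, by rw [QuotientGroup.mk_mul]; exact hm⟩)
  obtain ⟨dq, ⟨kq, hdq⟩, hVq, hdq'⟩ := ha' (a * b) (by
    obtain ⟨m, hm⟩ := key _ _ _ _ hc.symm hb1 ha1 hco.symm
    exact ⟨m, by rw [QuotientGroup.mk_mul, hc.eq]; exact hm⟩)
  refine ⟨a * b, ?_⟩
  have hd : dp * dq ∣ (Subgroup.centralizer ({a * b} : Set G)).index :=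
    (hdp ▸ hdq ▸ ((Nat.coprime_primes hp.out hq.out).mpr hpq).pow kp kq :
      Nat.Coprime dp dq).mul_dvd_of_dvd_of_dvd hdp' hdq'
  refine ((Nat.pow_dvd_pow_iff two_ne_zero).mp ?_).trans hd
  rw [mul_pow]
  refine Dvd.dvd.trans ?_ (mul_dvd_mul hVp hVq)
  -- the orders
  have hFle : F ≤ Cfsg.pCore p G ⊔ Cfsg.pCore q G := by
    rw [hF, Cores.fittingSubgroup_eq_iSup_pCore]
    refine iSup_le fun r => ?_
    by_cases hbot : Cfsg.pCore (r : ℕ) G = ⊥
    · rw [hbot]; exact bot_le
    haveI : Fact (r : ℕ).Prime := ⟨r.2⟩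
    have hd : (r : ℕ) ∣ Nat.card (Cfsg.pCore (r : ℕ) G) :=
      (Cores.pCore_isPGroup (r : ℕ)).card_eq_or_dvd.resolve_left
        fun h => hbot (Subgroup.card_eq_one.mp h)
    rcases hpi r r.2 (hd.trans (Subgroup.card_subgroup_dvd_card _)) with h | h
    · rw [h]; exact le_sup_left
    · rw [h]; exact le_sup_right
  have hF2 : Nat.card F ∣ Nat.card (Cfsg.pCore p G) * Nat.card (Cfsg.pCore q G) :=
    (Subgroup.card_dvd_of_le hFle).trans (Cores.card_sup_dvd_mul _ _)
  rw [← Structure.degree_sq_mul_card ρ hhom F hirr,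
    ← Subgroup.card_mul_index (Z.subgroupOf (Cfsg.pCore p G)),
    ← Subgroup.card_mul_index (Z.subgroupOf (Cfsg.pCore q G))] at hF2
  have hZ : Nat.card (Z.subgroupOf (Cfsg.pCore p G)) * Nat.card (Z.subgroupOf (Cfsg.pCore q G)) ∣
      Nat.card (Z.subgroupOf F) := by
    have hcard : ∀ (E : Subgroup G), E ≤ F →
        Nat.card (Z.subgroupOf E) ∣ Nat.card (Z.subgroupOf F) := fun E hE =>
      Subgroup.card_dvd_of_injective
        (((Subgroup.inclusion hE).comp (Z.subgroupOf E).subtype).codRestrict (Z.subgroupOf F)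
          fun x => x.2)
        fun x y h => Subtype.ext (Subgroup.inclusion_injective hE (congrArg Subtype.val h))
    have hpgrp : ∀ (r : ℕ), ∃ e, r.Prime → Nat.card (Z.subgroupOf (Cfsg.pCore r G)) = r ^ e :=
      fun r => by
        by_cases hr : r.Prime
        · haveI := Fact.mk hr
          obtain ⟨e, he⟩ := IsPGroup.iff_card.mp ((Cores.pCore_isPGroup (G := G) r).to_subgroup
            (Z.subgroupOf (Cfsg.pCore r G)))
          exact ⟨e, fun _ => he⟩
        · exact ⟨0, fun h => absurd h hr⟩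
    obtain ⟨e₁, he₁⟩ := hpgrp p
    obtain ⟨e₂, he₂⟩ := hpgrp q
    refine Nat.Coprime.mul_dvd_of_dvd_of_dvd ?_ (hcard _ hEp) (hcard _ hEq)
    rw [he₁ hp.out, he₂ hq.out]
    exact ((Nat.coprime_primes hp.out hq.out).mpr hpq).pow _ _
  rw [mul_mul_mul_comm (Nat.card (Z.subgroupOf (Cfsg.pCore p G)))] at hF2
  rw [sq]
  refine Nat.dvd_of_mul_dvd_mul_right Nat.card_pos (hF2.trans ?_)
  rw [mul_comm]
  exact mul_dvd_mul_left _ hZ

end Cfsg.Agent.Lib.PrimitiveMeta.Main
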